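import Cfsg.Agent.OddOrder.PiCore
import Cfsg.Agent.Solvable.Fitting
import Cfsg.Agent.Coprime.Basic

/-!
# Nilpotent subgroups of an ambient group: π-parts and the Fitting subgroup `fittingOf`
-/

set_option autoImplicit false
set_option linter.style.haveILetI false

namespace CfsgLib.OddOrder

open Cfsg Subgroup

variable {G : Type*} [Group G] [Finite G]

omit [Finite G] in
/-- Two subgroups normalizing each other and meeting trivially centralize each other. -/
theorem le_centralizer_of_normalize {A B : Subgroup G} (hA : A ≤ normalizer (B : Set G))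
    (hB : B ≤ normalizer (A : Set G)) (h : A ⊓ B = ⊥) : A ≤ centralizer (B : Set G) := by
  intro a ha
  rw [mem_centralizer_iff]
  intro b hb
  have h1 : a * b * a⁻¹ * b⁻¹ ∈ A ⊓ B := by
    refine mem_inf.2 ⟨?_, mul_mem ((mem_normalizer_iff.1 (hA ha) b).1 hb) (inv_mem hb)⟩
    rw [mul_assoc a b, mul_assoc a (b * a⁻¹)]
    exact mul_mem ha ((mem_normalizer_iff.1 (hB hb) _).1 (inv_mem ha))
  rw [h, mem_bot, mul_inv_eq_one, mul_inv_eq_iff_eq_mul] at h1
  exact h1.symm

omit [Finite G] in
theorem isPiSubgroup_singleton_prime {r : ℕ} {A : Subgroup G} (hA : IsPiSubgroup ({r} : Set ℕ) A)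
    {q : ℕ} (hq : q.Prime) (hd : q ∣ Nat.card A) : q = r :=
  hA q hq hd

/-- A π-subgroup of a nilpotent group lies in its π-core. -/
theorem nilpotent_le_piCoreOf {F Y : Subgroup G} (hF : Group.IsNilpotent F) (hYF : Y ≤ F)
    {π : Set ℕ} (hY : IsPiSubgroup π Y) : Y ≤ Cfsg.piCoreOf π F := by
  haveI := hF
  have key : ∀ q : ℕ, q.Prime → q ∈ π → ∀ Q : Subgroup G, Q ≤ F → IsPGroup q Q →
      Q ≤ Cfsg.piCoreOf π F := by
    intro q hq hqπ Q hQF hQ
    haveI := Fact.mk hq
    obtain ⟨S, hS⟩ := (hQ.comap_subtype (K := F)).exists_le_sylow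
    refine le_trans ?_ (le_piCoreOf (N := (S : Subgroup F).map F.subtype) (map_subtype_le _) ?_
      (isPiSubgroup_of_isPGroup (S.isPGroup'.map _) hqπ))
    · rw [← map_subgroupOf_eq_of_le hQF]
      exact map_mono hS
    · rw [← normal_subgroupOf_iff_le_normalizer (map_subtype_le _),
        show ((S : Subgroup F).map F.subtype).subgroupOf F = (S : Subgroup F) from
          comap_map_eq_self_of_injective F.subtype_injective _]
      infer_instance
  have htop := Solvable.iSup_sylow_eq_top (G := Y)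
    (fun q => Classical.arbitrary (Sylow (q : ℕ) Y))
  have h := congrArg (Subgroup.map Y.subtype) htop
  rw [← MonoidHom.range_eq_map, range_subtype, Subgroup.map_iSup] at h
  refine h.ge.trans (iSup_le fun q => ?_)
  have hq := Nat.mem_primeFactors.1 q.2
  haveI := Fact.mk hq.1
  exact key q hq.1 (hY q hq.1 hq.2.1) _ ((map_subtype_le _).trans hYF)
    ((Classical.arbitrary (Sylow (q : ℕ) Y)).isPGroup'.map _)

/-- A nilpotent group is the product of its π-part and its π'-part. -/
theorem nilpotent_le_sup_piCoreOf {F : Subgroup G} (hF : Group.IsNilpotent F) {π ρ : Set ℕ}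
    (h : ∀ q : ℕ, q.Prime → q ∣ Nat.card F → q ∈ π ∨ q ∈ ρ) :
    F ≤ Cfsg.piCoreOf π F ⊔ Cfsg.piCoreOf ρ F := by
  have htop := Solvable.iSup_sylow_eq_top (G := F)
    (fun q => Classical.arbitrary (Sylow (q : ℕ) F))
  have he := congrArg (Subgroup.map F.subtype) htop
  rw [← MonoidHom.range_eq_map, range_subtype, Subgroup.map_iSup] at he
  refine he.ge.trans (iSup_le fun q => ?_)
  have hq := Nat.mem_primeFactors.1 q.2
  haveI := Fact.mk hq.1
  rcases h q hq.1 hq.2.1 with hqπ | hqρ
  · exact (nilpotent_le_piCoreOf hF (map_subtype_le _) (isPiSubgroup_of_isPGroup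
      ((Classical.arbitrary (Sylow (q : ℕ) F)).isPGroup'.map _) hqπ)).trans le_sup_left
  · exact (nilpotent_le_piCoreOf hF (map_subtype_le _) (isPiSubgroup_of_isPGroup
      ((Classical.arbitrary (Sylow (q : ℕ) F)).isPGroup'.map _) hqρ)).trans le_sup_right

theorem piCoreOf_le_centralizer_piCoreOf (F : Subgroup G) {π ρ : Set ℕ} (h : Disjoint π ρ) :
    Cfsg.piCoreOf π F ≤ centralizer (Cfsg.piCoreOf ρ F : Set G) :=
  le_centralizer_of_normalize ((piCoreOf_le π F).trans (le_normalizer_piCoreOf ρ F))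
    ((piCoreOf_le ρ F).trans (le_normalizer_piCoreOf π F))
    (inf_eq_bot_of_isPiSubgroup (isPiSubgroup_piCoreOf π F) (isPiSubgroup_piCoreOf ρ F) h)

/-- The centre of a nilpotent group meets every primary part. -/
theorem nilpotent_center_inf_ne_bot {F : Subgroup G} (hF : Group.IsNilpotent F) {r : ℕ}
    (hr : r.Prime) (hd : r ∣ Nat.card F) :
    Cfsg.piCoreOf ({r} : Set ℕ) F ⊓ centralizer (F : Set G) ≠ ⊥ := by
  haveI := Fact.mk hr
  haveI := hF
  set R := Cfsg.piCoreOf ({r} : Set ℕ) F with hR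
  obtain ⟨x, hx⟩ := exists_prime_orderOf_dvd_card' r hd
  have hx1 : (x : G) ≠ 1 := by
    intro h
    apply hr.ne_one
    rw [← hx, orderOf_eq_one_iff]
    exact Subtype.ext h
  have hxR : (x : G) ∈ R := by
    refine nilpotent_le_piCoreOf (π := ({r} : Set ℕ)) hF (zpowers_le.2 x.2)
      (isPiSubgroup_of_isPGroup (p := r) ?_ rfl) (mem_zpowers _)
    exact IsPGroup.of_card (n := 1)
      (by rw [Nat.card_zpowers, Subgroup.orderOf_coe, hx, pow_one])
  have hRp : IsPGroup r R := isPGroup_of_isPiSubgroup (isPiSubgroup_piCoreOf _ F)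
  haveI : Nontrivial R := ⟨⟨⟨x, hxR⟩, 1, fun h => hx1 (congrArg Subtype.val h)⟩⟩
  haveI := hRp.center_nontrivial
  obtain ⟨z, hz⟩ := exists_ne (1 : center R)
  intro hbot
  apply hz
  have hzC : ((z : R) : G) ∈ centralizer (F : Set G) := by
    have hle : F ≤ centralizer ({((z : R) : G)} : Set G) := by
      refine (nilpotent_le_sup_piCoreOf hF (π := {r}) (ρ := {q | q ≠ r}) fun q _ _ => ?_).trans
        (sup_le ?_ ?_)
      · exact (em (q = r)).imp id id
      · intro y hy
        exact mem_centralizer_singleton_iff.2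
          (congrArg Subtype.val (mem_center_iff.1 z.2 ⟨y, hy⟩))
      · intro y hy
        have hcc := piCoreOf_le_centralizer_piCoreOf F
          (π := ({r} : Set ℕ)) (ρ := {q | q ≠ r}) (by simp) (z : R).2
        exact mem_centralizer_singleton_iff.2 (mem_centralizer_iff.1 hcc y hy)
    exact mem_centralizer_iff.2 fun y hy => mem_centralizer_singleton_iff.1 (hle hy)
  have : ((z : R) : G) ∈ R ⊓ centralizer (F : Set G) := ⟨(z : R).2, hzC⟩
  rw [hbot, mem_bot] at this
  exact Subtype.ext (Subtype.ext this)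

theorem fittingOf_le (M : Subgroup G) : Cfsg.fittingOf M ≤ M :=
  map_subtype_le _

theorem isNilpotent_fittingOf (M : Subgroup G) : Group.IsNilpotent (Cfsg.fittingOf M) := by
  haveI := Solvable.fittingSubgroup_isNilpotent (G := M)
  exact Group.nilpotent_of_mulEquiv
    ((Cfsg.fittingSubgroup M).equivMapOfInjective M.subtype M.subtype_injective)

theorem normalizer_le_normalizer_fittingOf (M : Subgroup G) :
    normalizer (M : Set G) ≤ normalizer ((Cfsg.fittingOf M : Subgroup G) : Set G) := by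
  intro g hg
  rw [mem_normalizer_iff_map_conj_eq] at hg ⊢
  haveI := Solvable.fittingSubgroup_characteristic (G := M)
  set e : M ≃* M := ((MulAut.conj g).subgroupMap M).trans (MulEquiv.subgroupCongr hg) with he
  have hc : (Cfsg.fittingSubgroup M).map e.toMonoidHom = Cfsg.fittingSubgroup M :=
    characteristic_iff_map_eq.1 inferInstance e
  unfold Cfsg.fittingOf
  conv_rhs => rw [← hc]
  rw [map_map, map_map]
  rfl

theorem le_normalizer_fittingOf (M : Subgroup G) :
    M ≤ normalizer ((Cfsg.fittingOf M : Subgroup G) : Set G) :=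
  le_normalizer.trans (normalizer_le_normalizer_fittingOf M)

theorem le_fittingOf {N M : Subgroup G} (hNM : N ≤ M) (hn : M ≤ normalizer (N : Set G))
    (h : Group.IsNilpotent N) : N ≤ Cfsg.fittingOf M := by
  haveI : (N.subgroupOf M).Normal := (normal_subgroupOf_iff_le_normalizer hNM).2 hn
  haveI := h
  rw [← map_subgroupOf_eq_of_le hNM]
  exact map_mono (Solvable.le_fittingSubgroup
    (Group.nilpotent_of_mulEquiv (subgroupOfEquivOfLe hNM).symm))

/-- `C_M(F(M)) ≤ F(M)` for solvable `M`. -/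
theorem inf_centralizer_fittingOf_le {M : Subgroup G} (hM : Group.IsSolvable M) :
    M ⊓ centralizer (Cfsg.fittingOf M : Set G) ≤ Cfsg.fittingOf M := by
  haveI := hM
  rintro x ⟨hxM, hx⟩
  refine ⟨⟨x, hxM⟩, Solvable.centralizer_fittingSubgroup_le ?_, rfl⟩
  exact mem_centralizer_iff.2 fun y hy =>
    Subtype.ext (mem_centralizer_iff.1 hx y ⟨y, hy, rfl⟩)

theorem fittingOf_ne_bot {M : Subgroup G} (hM : Group.IsSolvable M) (hne : M ≠ ⊥) :
    Cfsg.fittingOf M ≠ ⊥ := by
  haveI := hM
  haveI := (nontrivial_iff_ne_bot M).2 hne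
  intro h
  exact Solvable.fittingSubgroup_ne_bot (G := M)
    ((map_eq_bot_iff_of_injective _ M.subtype_injective).1 h)

/-- A normal primary subgroup lies in the Fitting subgroup. -/
theorem piCoreOf_singleton_le_fittingOf {r : ℕ} (hr : r.Prime) (M : Subgroup G) :
    Cfsg.piCoreOf ({r} : Set ℕ) M ≤ Cfsg.fittingOf M := by
  haveI := Fact.mk hr
  exact le_fittingOf (piCoreOf_le _ _) (le_normalizer_piCoreOf _ _)
    (isPGroup_of_isPiSubgroup (isPiSubgroup_piCoreOf _ M)).isNilpotent

end CfsgLib.OddOrder
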