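import Cfsg.Agent.OddOrder.BG8.Fitting
import Cfsg.Agent.OddOrder.BG7.PConstraint
import Cfsg.Agent.OddOrder.BG9.Noncyclic
import Cfsg.Agent.OddOrder.Setup

/-!
# Bender's uniqueness argument for a Fitting subgroup of composite order

If `M` is maximal, `F = F(M)` has at least two prime divisors, `Z(F) ≤ A ≤ F` and `A` normalizes
no nontrivial `π(F)'`-subgroup, then `M` is the only maximal subgroup containing `A` (S1482).
-/

set_option autoImplicit false
set_option linter.style.haveILetI false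

namespace CfsgLib.OddOrder

open Cfsg Subgroup

variable {G : Type*} [Group G] [Finite G]

/-- A nilpotent group lies in `X` once all its primary parts do. -/
theorem nilpotent_le_of_forall_part {F X : Subgroup G} (hF : Group.IsNilpotent F)
    (h : ∀ q : ℕ, q.Prime → q ∣ Nat.card F → Cfsg.piCoreOf ({q} : Set ℕ) F ≤ X) : F ≤ X := by
  have htop := Solvable.iSup_sylow_eq_top (G := F)
    (fun q => Classical.arbitrary (Sylow (q : ℕ) F))
  have he := congrArg (Subgroup.map F.subtype) htop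
  rw [← MonoidHom.range_eq_map, range_subtype, Subgroup.map_iSup] at he
  refine he.ge.trans (iSup_le fun q => ?_)
  have hq := Nat.mem_primeFactors.1 q.2
  haveI := Fact.mk hq.1
  exact (nilpotent_le_piCoreOf (π := ({(q : ℕ)} : Set ℕ)) hF (map_subtype_le _)
    (isPiSubgroup_of_isPGroup ((Classical.arbitrary (Sylow (q : ℕ) F)).isPGroup'.map _) rfl)).trans
    (h q hq.1 hq.2.1)

theorem isNilpotent_of_le {A B : Subgroup G} (h : A ≤ B) (hB : Group.IsNilpotent B) :
    Group.IsNilpotent A := by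
  haveI := hB
  exact Group.nilpotent_of_mulEquiv (subgroupOfEquivOfLe h)

/-- Intersections of `O_{s'}(X)`. -/
theorem le_piCoreOf_of_forall_pPrime {X Y : Subgroup G} {S ρ : Set ℕ} {s₀ : ℕ} (hs₀ : s₀ ∈ S)
    (h : ∀ s ∈ S, Y ≤ Cfsg.piCoreOf (Cfsg.primesNotDvd s) X)
    (hρ : ∀ q : ℕ, q.Prime → q ∉ S → q ∈ ρ) : Y ≤ Cfsg.piCoreOf ρ X := by
  set N := ⨅ s : S, Cfsg.piCoreOf (Cfsg.primesNotDvd (s : ℕ)) X with hN
  refine le_trans (le_iInf fun s => h s s.2 : Y ≤ N)
    (le_piCoreOf ((iInf_le _ ⟨s₀, hs₀⟩).trans (piCoreOf_le _ X)) ?_ ?_)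
  · intro g hg
    rw [mem_normalizer_iff]
    intro x
    simp only [hN, mem_iInf]
    exact forall_congr' fun s => mem_normalizer_iff.1 (le_normalizer_piCoreOf _ X hg) x
  · intro q hq hd
    refine hρ q hq fun hqS => ?_
    have h1 := isPiSubgroup_piCoreOf (Cfsg.primesNotDvd q) X q hq
      (hd.trans (card_dvd_of_le (iInf_le _ (⟨q, hqS⟩ : S))))
    exact h1.2 dvd_rfl

/-- Commuting `p`- and `p'`-subgroups: the latter lies in `O_{p'}` when it lies in a `p'`-subgroup
normalized by the centralizer of the former. -/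
theorem le_pPrimeCore_of_commuting [Group.IsSolvable G] {p : ℕ} [Fact p.Prime] {P Q F : Subgroup G}
    (hP : IsPGroup p P) (hF : (Nat.card F).Coprime p) (hQF : Q ≤ F)
    (hPQ : P ≤ centralizer (Q : Set G)) (hn : centralizer (P : Set G) ≤ normalizer (F : Set G)) :
    Q ≤ Cfsg.pPrimeCore p G := by
  set f := QuotientGroup.mk' (Cfsg.pPrimeCore p G) with hf
  haveI : (Cfsg.pCore p (G ⧸ Cfsg.pPrimeCore p G)).Normal := Subgroup.normal_of_characteristic _
  refine le_pPrimeCore_of_map_eq_bot ?_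
  have hF' : (Nat.card (F.map f)).Coprime p := hF.coprime_dvd_left (card_map_dvd F f)
  have hQ' : (Nat.card (Q.map f)).Coprime p :=
    hF'.coprime_dvd_left (card_dvd_of_le (map_mono hQF))
  refine eq_bot_of_centralizes centralizer_pCore_quotient_le (hP.map f) hQ' ?_ ?_
  · rintro _ ⟨a, ha, rfl⟩
    rw [mem_centralizer_iff]
    rintro _ ⟨y, hy, rfl⟩
    rw [← map_mul, ← map_mul, mem_centralizer_iff.1 (hPQ ha) y hy]
  · rintro t ⟨ht, htP⟩
    obtain ⟨c, hc, rfl⟩ := exists_lift_centralizer hP ht htP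
    have hnc : zpowers (f c) ≤ normalizer ((F.map f : Subgroup _) : Set (G ⧸ Cfsg.pPrimeCore p G)) :=
      zpowers_le.2 (le_normalizer_map f ⟨c, hn hc, rfl⟩)
    have h := le_centralizer_of_le_normal (PLocal.isPGroup_pCore p (G ⧸ Cfsg.pPrimeCore p G))
      (zpowers_le.2 ht) hF' hnc (mem_zpowers _)
    exact centralizer_le (map_mono hQF) h

/-- The same inside a solvable subgroup `X`. -/
theorem le_piCoreOf_of_commuting {p : ℕ} [Fact p.Prime] {X P Q F : Subgroup G}
    (hX : Group.IsSolvable X) (hPX : P ≤ X) (hQX : Q ≤ X) (hP : IsPGroup p P)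
    (hF : (Nat.card F).Coprime p) (hQF : Q ≤ F) (hPQ : P ≤ centralizer (Q : Set G))
    (hn : X ⊓ centralizer (P : Set G) ≤ normalizer (F : Set G)) :
    Q ≤ Cfsg.piCoreOf (Cfsg.primesNotDvd p) X := by
  haveI := hX
  refine le_piCoreOf_of_subgroupOf_le hQX (le_pPrimeCore_of_commuting (isPGroup_subgroupOf hP)
    (coprime_card_subgroupOf (Y := F) hF) (comap_mono hQF) (fun x hx => ?_) (fun x hx => ?_))
  · exact mem_centralizer_iff.2 fun y hy => Subtype.ext (mem_centralizer_iff.1 (hPQ hx) y hy)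
  · rw [mem_normalizer_iff]
    intro y
    refine mem_normalizer_iff.1 (hn (mem_inf.2 ⟨x.2, mem_centralizer_iff.2 fun z hz => ?_⟩)) (y : G)
    exact congrArg Subtype.val (mem_centralizer_iff.1 hx ⟨z, hPX hz⟩ hz)

/-- The standing situation: `Z(F) ≤ A ≤ F = F(M)`, with at least two primes, and `A` normalizes no
nontrivial subgroup of order prime to `|F|`. -/
structure BenderBase (M A : Subgroup G) : Prop where
  coatom : IsCoatom M
  le_fitting : A ≤ Cfsg.fittingOf M
  center_le : Cfsg.fittingOf M ⊓ centralizer (Cfsg.fittingOf M : Set G) ≤ A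
  two_primes : ∀ r : ℕ, ∃ s : ℕ, s.Prime ∧ s ∣ Nat.card (Cfsg.fittingOf M) ∧ s ≠ r

/-- A `BenderBase` in which `A` normalizes no nontrivial subgroup of order prime to `|F|`. -/
structure BenderPair (M A : Subgroup G) : Prop extends BenderBase M A where
  invariant : ∀ Y : Subgroup G,
    IsPiSubgroup (Cfsg.primesNotDvd (Nat.card (Cfsg.fittingOf M))) Y →
      A ≤ normalizer (Y : Set G) → Y = ⊥

theorem BenderPair.mono {M A B : Subgroup G} (h : BenderPair M A) (hAB : A ≤ B)
    (hB : B ≤ Cfsg.fittingOf M) : BenderPair M B :=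
  { coatom := h.coatom
    le_fitting := hB
    center_le := h.center_le.trans hAB
    two_primes := h.two_primes
    invariant := fun Y hY hn => h.invariant Y hY (hAB.trans hn) }

/-- The primes `r` together with those not dividing `|F|`. -/
abbrev benderPrimes (n r : ℕ) : Set ℕ := {s | s.Prime ∧ (s = r ∨ ¬ s ∣ n)}

variable {M A : Subgroup G}

theorem BenderBase.part_centralizer_le (hG : Cfsg.IsMinSimpleOddOrder G) (h : BenderBase M A)
    {s : ℕ} (hs : s.Prime) (hd : s ∣ Nat.card (Cfsg.fittingOf M)) :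
    centralizer (Cfsg.piCoreOf ({s} : Set ℕ) A : Set G) ≤ M ∧
      Cfsg.piCoreOf ({s} : Set ℕ) A ≠ ⊥ := by
  set F := Cfsg.fittingOf M
  set Z := Cfsg.piCoreOf ({s} : Set ℕ) F ⊓ centralizer (F : Set G) with hZ
  have hZne : Z ≠ ⊥ := nilpotent_center_inf_ne_bot (isNilpotent_fittingOf M) hs hd
  have hZA : Z ≤ A := (le_inf (inf_le_left.trans (piCoreOf_le _ _)) inf_le_right).trans h.center_le
  have hZp : Z ≤ Cfsg.piCoreOf ({s} : Set ℕ) A :=
    nilpotent_le_piCoreOf (isNilpotent_of_le h.le_fitting (isNilpotent_fittingOf M)) hZA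
      (isPiSubgroup_mono inf_le_left (isPiSubgroup_piCoreOf _ _))
  refine ⟨?_, fun hbot => hZne (le_bot_iff.1 (hbot ▸ hZp))⟩
  have hMN : M ≤ normalizer (Z : Set G) := by
    intro g hg
    have hgF := le_normalizer_fittingOf M hg
    have h1 := normalizer_le_normalizer_piCoreOf ({s} : Set ℕ) F hgF
    have h2 := normalizer_le_normalizer_centralizer_subgroup F hgF
    rw [mem_normalizer_iff]
    intro x
    exact and_congr (mem_normalizer_iff.1 h1 x) (mem_normalizer_iff.1 h2 x)
  refine (centralizer_le hZp).trans ((centralizer_le_normalizer _).trans (le_of_eq ?_))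
  exact minSimple_normalizer_eq_coatom_of_le hG h.coatom hZne
    ((inf_le_left.trans (piCoreOf_le _ _)).trans (fittingOf_le M)) hMN

theorem BenderBase.part_le_pPrime (hG : Cfsg.IsMinSimpleOddOrder G) (h : BenderBase M A)
    {X : Subgroup G} (hX : X ≠ ⊤) (hAX : A ≤ X) {r s : ℕ} (hs : s.Prime)
    (hd : s ∣ Nat.card (Cfsg.fittingOf M)) (hrs : r ≠ s) :
    Cfsg.piCoreOf ({r} : Set ℕ) A ≤ Cfsg.piCoreOf (Cfsg.primesNotDvd s) X := by
  haveI := Fact.mk hs
  have hle := piCoreOf_le ({r} : Set ℕ) A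
  refine le_piCoreOf_of_commuting (minSimple_solvable hG hX)
    (P := Cfsg.piCoreOf ({s} : Set ℕ) A) (F := Cfsg.piCoreOf ({r} : Set ℕ) (Cfsg.fittingOf M))
    ((piCoreOf_le _ A).trans hAX) (hle.trans hAX)
    (isPGroup_of_isPiSubgroup (isPiSubgroup_piCoreOf _ A)) ?_
    (nilpotent_le_piCoreOf (isNilpotent_fittingOf M) (hle.trans h.le_fitting)
      (isPiSubgroup_piCoreOf _ A))
    (piCoreOf_le_centralizer_piCoreOf A (Set.disjoint_singleton.2 (Ne.symm hrs))) ?_
  · refine (Nat.Coprime.symm ?_)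
    exact Nat.coprime_of_dvd fun q hq hd1 hd2 => hrs (by
      rw [← isPiSubgroup_piCoreOf ({r} : Set ℕ) _ q hq hd2, (Nat.prime_dvd_prime_iff_eq hq hs).1 hd1])
  · refine inf_le_right.trans ((h.part_centralizer_le hG hs hd).1.trans ?_)
    exact (le_normalizer_fittingOf M).trans (normalizer_le_normalizer_piCoreOf _ _)

theorem BenderBase.part_le_core (hG : Cfsg.IsMinSimpleOddOrder G) (h : BenderBase M A)
    {X : Subgroup G} (hX : X ≠ ⊤) (hAX : A ≤ X) (r : ℕ) :
    Cfsg.piCoreOf ({r} : Set ℕ) A ≤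
      Cfsg.piCoreOf (benderPrimes (Nat.card (Cfsg.fittingOf M)) r) X := by
  obtain ⟨s, hs, hd, hne⟩ := h.two_primes r
  refine le_piCoreOf_of_forall_pPrime
    (S := {s | s.Prime ∧ s ∣ Nat.card (Cfsg.fittingOf M) ∧ s ≠ r}) (s₀ := s) ⟨hs, hd, hne⟩
    (fun t ht => h.part_le_pPrime hG hX hAX ht.1 ht.2.1 (Ne.symm ht.2.2)) fun q hq hqS => ?_
  refine ⟨hq, ?_⟩
  by_contra hcon
  simp only [not_or, not_not] at hcon
  exact hqS ⟨hq, hcon.2, hcon.1⟩

theorem BenderPair.core_le (hG : Cfsg.IsMinSimpleOddOrder G) (h : BenderPair M A)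
    {L : Subgroup G} (hL : IsCoatom L) (hAL : A ≤ L) (r : ℕ) :
    Cfsg.piCoreOf (benderPrimes (Nat.card (Cfsg.fittingOf M)) r) L ≤ M := by
  obtain ⟨s, hs, hd, hne⟩ := h.two_primes r
  set n := Nat.card (Cfsg.fittingOf M)
  set W := Cfsg.piCoreOf (benderPrimes n r) L
  set W' := Cfsg.piCoreOf (benderPrimes n s) L
  have hinf : W ⊓ W' = ⊥ := by
    refine h.invariant _ (fun q hq hq' => ?_) ?_
    · obtain ⟨-, h1⟩ := isPiSubgroup_piCoreOf (benderPrimes n r) L q hq
        (hq'.trans (card_dvd_of_le inf_le_left))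
      obtain ⟨-, h2⟩ := isPiSubgroup_piCoreOf (benderPrimes n s) L q hq
        (hq'.trans (card_dvd_of_le inf_le_right))
      refine ⟨hq, ?_⟩
      rcases h1 with h1 | h1
      · rcases h2 with h2 | h2
        · exact absurd (h2.symm.trans h1) hne
        · exact h2
      · exact h1
    · intro a ha
      rw [mem_normalizer_iff]
      intro x
      exact and_congr (mem_normalizer_iff.1 (le_normalizer_piCoreOf _ L (hAL ha)) x)
        (mem_normalizer_iff.1 (le_normalizer_piCoreOf _ L (hAL ha)) x)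
  have hc : W ≤ centralizer (W' : Set G) :=
    le_centralizer_of_normalize ((piCoreOf_le _ L).trans (le_normalizer_piCoreOf _ L))
      ((piCoreOf_le _ L).trans (le_normalizer_piCoreOf _ L)) hinf
  exact hc.trans ((centralizer_le (h.part_le_core hG hL.1 hAL s)).trans
    (h.part_centralizer_le hG hs hd).1)

/-- One half of the argument: `F(M) ≤ F(L) ≤ M`. -/
theorem BenderPair.fitting_le (hG : Cfsg.IsMinSimpleOddOrder G) (h : BenderPair M A)
    {L : Subgroup G} (hL : IsCoatom L) (hAL : A ≤ L) :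
    Cfsg.fittingOf M ≤ Cfsg.fittingOf L ∧ Cfsg.fittingOf L ≤ M ∧
      ∀ q : ℕ, q.Prime → q ∣ Nat.card (Cfsg.fittingOf L) → q ∣ Nat.card (Cfsg.fittingOf M) := by
  set F := Cfsg.fittingOf M with hF
  set n := Nat.card F
  have hFn := isNilpotent_fittingOf M
  have hB : BenderPair M (F ⊓ L) := h.mono (le_inf h.le_fitting hAL) inf_le_left
  have hBn := isNilpotent_of_le (inf_le_left : F ⊓ L ≤ F) hFn
  have key : ∀ r : ℕ, r.Prime → r ∣ n →
      Cfsg.piCoreOf ({r} : Set ℕ) F ≤ Cfsg.fittingOf L := by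
    intro r hr hd
    haveI := Fact.mk hr
    set Fr := Cfsg.piCoreOf ({r} : Set ℕ) F with hFr
    set W := Cfsg.piCoreOf (benderPrimes n r) L
    set Q := Cfsg.piCoreOf ({r} : Set ℕ) L with hQ
    have hWM : W ≤ M := hB.core_le hG hL inf_le_right r
    have hMFr : M ≤ normalizer (Fr : Set G) :=
      (le_normalizer_fittingOf M).trans (normalizer_le_normalizer_piCoreOf _ _)
    have hDW : Fr ⊓ L ≤ W :=
      (nilpotent_le_piCoreOf hBn (inf_le_inf_right _ (piCoreOf_le _ _))
        (isPiSubgroup_mono inf_le_left (isPiSubgroup_piCoreOf _ _))).trans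
        (hB.part_le_core hG hL.1 inf_le_right r)
    have hWL : W ≤ L := piCoreOf_le _ L
    have hDQ : Fr ⊓ L ≤ Q := by
      refine le_trans (le_piCoreOf (π := ({r} : Set ℕ)) hDW ?_
        (isPiSubgroup_mono inf_le_left (isPiSubgroup_piCoreOf _ _))) ?_
      · intro g hg
        rw [mem_normalizer_iff]
        intro x
        exact and_congr (mem_normalizer_iff.1 (hMFr (hWM hg)) x)
          (mem_normalizer_iff.1 (le_normalizer (hWL hg) : g ∈ normalizer (L : Set G)) x)
      · exact le_piCoreOf ((piCoreOf_le _ W).trans hWL)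
          ((le_normalizer_piCoreOf _ L).trans (normalizer_le_normalizer_piCoreOf _ _))
          (isPiSubgroup_piCoreOf _ W)
    have hQne : Q ≠ ⊥ := by
      intro hbot
      refine (hB.part_centralizer_le hG hr hd).2 (le_bot_iff.1 ?_)
      rw [← hbot]
      refine le_trans (le_inf ?_ ((piCoreOf_le _ _).trans inf_le_right)) hDQ
      exact nilpotent_le_piCoreOf hFn ((piCoreOf_le _ _).trans inf_le_left)
        (isPiSubgroup_piCoreOf _ _)
    have hQM : Q ≤ M := by
      refine le_trans (le_piCoreOf (piCoreOf_le _ L) (le_normalizer_piCoreOf _ L) ?_) hWM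
      refine isPiSubgroup_of_subset ?_ (isPiSubgroup_piCoreOf _ _)
      rintro q rfl
      exact ⟨hr, Or.inl rfl⟩
    have hQN : normalizer (Q : Set G) = L :=
      minSimple_normalizer_eq_coatom_of_le hG hL hQne (piCoreOf_le _ L) (le_normalizer_piCoreOf _ L)
    refine le_trans ?_ (piCoreOf_singleton_le_fittingOf hr L)
    by_contra hnot
    have hQN' : Q ≤ normalizer (Fr : Set G) := hQM.trans hMFr
    have hS : IsPGroup r ↥(Q ⊔ Fr) := isPGroup_of_isPiSubgroup
      (isPiSubgroup_sup hQN' (isPiSubgroup_piCoreOf _ _) (isPiSubgroup_piCoreOf _ _))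
    have hlt : Q < Q ⊔ Fr :=
      lt_of_le_of_ne le_sup_left fun he => hnot ((le_sup_right : Fr ≤ Q ⊔ Fr).trans he.ge)
    refine (lt_normalizer_inf_of_lt hS hlt).not_ge ?_
    rintro x ⟨hxN, hx⟩
    rw [hQN] at hxN
    replace hx : x ∈ ((Q ⊔ Fr : Subgroup G) : Set G) := hx
    rw [coe_mul_of_left_le_normalizer_right _ _ hQN'] at hx
    obtain ⟨a, ha, b, hb, rfl⟩ := Set.mem_mul.1 hx
    have hbL : b ∈ L := by
      have := mul_mem (inv_mem (piCoreOf_le _ L ha)) hxN
      simpa using this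
    exact mul_mem ha (hDQ ⟨hb, hbL⟩)
  have hLn := isNilpotent_fittingOf L
  have hprimes : ∀ q : ℕ, q.Prime → q ∣ Nat.card (Cfsg.fittingOf L) → q ∣ n := by
    intro q hq hd
    by_contra hqn
    refine nilpotent_center_inf_ne_bot hLn hq hd (le_bot_iff.1 ?_)
    refine inf_le_left.trans (le_of_eq (h.invariant _ ?_ ?_))
    · intro t ht htd
      obtain rfl : t = q := isPiSubgroup_piCoreOf ({q} : Set ℕ) _ t ht htd
      exact ⟨ht, hqn⟩
    · exact (hAL.trans (le_normalizer_fittingOf L)).trans (normalizer_le_normalizer_piCoreOf _ _)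
  refine ⟨nilpotent_le_of_forall_part hFn key, nilpotent_le_of_forall_part hLn fun q hq hd => ?_,
    hprimes⟩
  refine le_trans (le_piCoreOf ((piCoreOf_le _ _).trans (fittingOf_le L)) ?_ ?_)
    (hB.core_le hG hL inf_le_right q)
  · exact (le_normalizer_fittingOf L).trans (normalizer_le_normalizer_piCoreOf _ _)
  · exact isPiSubgroup_of_subset (by rintro t rfl; exact ⟨hq, Or.inl rfl⟩)
      (isPiSubgroup_piCoreOf _ _)

/-- Bender: `M` is the only maximal subgroup containing `A`. -/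
theorem BenderPair.coatom_eq (hG : Cfsg.IsMinSimpleOddOrder G) (h : BenderPair M A)
    {L : Subgroup G} (hL : IsCoatom L) (hAL : A ≤ L) : L = M := by
  obtain ⟨h1, h2, h3⟩ := h.fitting_le hG hL hAL
  have hd : ∀ q : ℕ, q.Prime → (q ∣ Nat.card (Cfsg.fittingOf M) ↔ q ∣ Nat.card (Cfsg.fittingOf L)) :=
    fun q hq => ⟨fun hd => hd.trans (card_dvd_of_le h1), h3 q hq⟩
  have h' : BenderPair L (Cfsg.fittingOf L) :=
    { coatom := hL
      le_fitting := le_rfl
      center_le := inf_le_left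
      two_primes := fun r => by
        obtain ⟨s, hs, hsd, hne⟩ := h.two_primes r
        exact ⟨s, hs, (hd s hs).1 hsd, hne⟩
      invariant := fun Y hY hn => h.invariant Y
        (fun q hq hqd => ⟨hq, fun hq' => (hY q hq hqd).2 ((hd q hq).1 hq')⟩)
        ((h.le_fitting.trans h1).trans hn) }
  have he : Cfsg.fittingOf M = Cfsg.fittingOf L := le_antisymm h1 (h'.fitting_le hG h.coatom h2).1
  have hne := fittingOf_ne_bot (minSimple_coatom_solvable hG h.coatom)
    (minSimple_coatom_ne_bot hG h.coatom)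
  rw [← minSimple_normalizer_eq_coatom_of_le hG h.coatom hne (fittingOf_le M)
      (le_normalizer_fittingOf M),
    ← minSimple_normalizer_eq_coatom_of_le hG hL (he ▸ hne) (fittingOf_le L)
      (le_normalizer_fittingOf L), he]

omit [Finite G] in
theorem exists_prime_dvd_ne {n : ℕ} (h : 2 ≤ n.primeFactors.card) (r : ℕ) :
    ∃ s : ℕ, s.Prime ∧ s ∣ n ∧ s ≠ r := by
  obtain ⟨s, hs, hne⟩ := Finset.exists_mem_ne h r
  exact ⟨s, (Nat.mem_primeFactors.1 hs).1, (Nat.mem_primeFactors.1 hs).2.1, hne⟩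

end CfsgLib.OddOrder
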