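import Cfsg.Agent.OddOrder.BG8.NonPCore
import Cfsg.Agent.OddOrder.BG9.Noncyclic

/-!
# BG 8.1 (b): the case of a Fitting subgroup that is a `p`-group

Conditional on `AbelianNormalBound` and `ZJBound`.
-/

set_option autoImplicit false
set_option linter.style.haveILetI false

namespace CfsgLib.OddOrder

open Cfsg Subgroup
open CfsgLib.ConjFunctor (IsSylowIn exists_isSylowIn_ge)

variable {G : Type*} [Group G] [Finite G] {p : ℕ} [Fact p.Prime]

/-- A Sylow subgroup of `M` whose normalizer lies in `M` is a Sylow subgroup of `G`. -/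
theorem isSylowIn_top_of_normalizer_le {M P : Subgroup G} (hP : IsSylowIn p P M)
    (h : normalizer (P : Set G) ≤ M) : IsSylowIn p P ⊤ := by
  obtain ⟨Q, hPQ, hQ⟩ := exists_isSylowIn_ge (p := p) (le_top : P ≤ ⊤) hP.2.1
  suffices he : P = Q from he ▸ hQ
  by_contra hne
  have hlt := lt_normalizer_inf_of_lt hQ.2.1 (lt_of_le_of_ne hPQ hne)
  exact hlt.ne (hP.eq_of_le hlt.le (inf_le_left.trans h) (hQ.2.1.to_le inf_le_right)).symm

/-- BG 8.1 (b). -/
theorem pCore_scn_inUniqueMaximal (hG : Cfsg.IsMinSimpleOddOrder G) (habn : AbelianNormalBound p G)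
    (hzj : ZJBound p G) {M : Subgroup G} (hM : IsCoatom M)
    (hFp : IsPGroup p ↥(Cfsg.fittingOf M)) {P : Subgroup G} (hP : IsSylowIn p P M) :
    IsSylowIn p P ⊤ ∧ ∀ A : Subgroup G, Cfsg.IsSCN P A → ¬ Cfsg.PRankLE p 2 A →
      A ≤ Cfsg.fittingOf M ∧ Cfsg.InUniqueMaximal A := by
  set F := Cfsg.fittingOf M with hF
  set π := Cfsg.primesNotDvd p with hπ
  set D := Cfsg.piCoreOf π M with hD
  have hsolM := minSimple_coatom_solvable hG hM
  have hMne := minSimple_coatom_ne_bot hG hM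
  have hFne : F ≠ ⊥ := fittingOf_ne_bot hsolM hMne
  have hDc : (Nat.card D).Coprime p := isPiSubgroup_primesNotDvd_iff.1 (isPiSubgroup_piCoreOf _ _)
  have hD0 : D = ⊥ := by
    by_contra hne
    have hsolD : Group.IsSolvable D :=
      minSimple_solvable hG (ne_top_of_le_ne_top hM.1 (piCoreOf_le _ _))
    refine fittingOf_ne_bot hsolD hne (le_bot_iff.1 ?_)
    rw [← inf_eq_bot_pPrime hFp hDc]
    refine le_inf (le_fittingOf ((fittingOf_le D).trans (piCoreOf_le _ _)) ?_
      (isNilpotent_fittingOf D)) (fittingOf_le D)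
    exact (le_normalizer_piCoreOf π M).trans (normalizer_le_normalizer_fittingOf D)
  have hPne : P ≠ ⊥ := hP.ne_bot_of_le (fittingOf_le M) hFp hFne
  set Z := Cfsg.centerThompsonOf p P
  have hZN : normalizer (Z : Set G) = M :=
    (hM.le_iff.1 ((hzj M P hM.1 hP).trans (sup_le (hD0.le.trans bot_le) inf_le_right))).resolve_left
      (minSimple_normalizer_ne_top hG (centerThompsonOf_ne_bot hP.2.1 hPne)
        (minSimple_ne_top_of_isPGroup hG (hP.2.1.to_le (centerThompsonOf_le p P))))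
  have hPG : IsSylowIn p P ⊤ :=
    isSylowIn_top_of_normalizer_le hP ((normalizer_le_normalizer_centerThompsonOf p P).trans hZN.le)
  refine ⟨hPG, fun A hA hA3 => ?_⟩
  have hAc := scn_isMulCommutative hA
  have hAp : IsPGroup p A := hP.2.1.to_le hA.1
  have hAM : A ≤ M := hA.1.trans hP.1
  have hAne : A ≠ ⊥ := by
    rintro rfl
    exact hA3 fun S _ _ => (card_le_card_group S).trans (by
      rw [card_bot]; exact Nat.one_le_pow _ _ (Fact.out : p.Prime).pos)
  have hA1 : ¬ Cfsg.PRankLE p 1 A := fun h => hA3 fun S h1 h2 =>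
    (h S h1 h2).trans (Nat.pow_le_pow_right (Fact.out : p.Prime).pos (by omega))
  haveI := hsolM
  have hcore : Cfsg.pPrimeCore p M = ⊥ := by
    rw [← map_eq_bot_iff_of_injective _ M.subtype_injective, ← piCoreOf_primesNotDvd_eq]
    exact hD0
  have hAF : A ≤ F := by
    have h1 : A.subgroupOf M ≤ Cfsg.pPrimePCore p M :=
      habn M hM.1 ((hP.2.1.comap_subtype (K := M)).toSylow hP.2.2) _ (comap_mono hA.1)
        ⟨⟨fun a b => Subtype.ext (Subtype.ext (setLike_mul_comm (s := A) a.2 b.2))⟩⟩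
        (subgroupOf_le_normalizer_subgroupOf hA.2.1)
    rw [PLocal.pPrimePCore_eq_pCore hcore] at h1
    rw [← map_subgroupOf_eq_of_le hAM]
    exact map_mono (h1.trans (Solvable.pCore_le_fittingSubgroup p))
  refine ⟨hAF, ?_⟩
  have hFP : F ≤ P := by
    obtain ⟨a, haM, ha⟩ := hP.exists_cj_le (fittingOf_le M) hFp
    rwa [ConjFunctor.cj_eq_of_mem_normalizer (le_normalizer_fittingOf M haM)] at ha
  have hpF : p ∣ Nat.card F := by
    obtain ⟨n, hn⟩ := IsPGroup.iff_card.1 hFp
    rw [hn]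
    refine dvd_pow_self p fun h0 => hFne (card_eq_one.1 ?_)
    rw [hn, h0, pow_zero]
  set ZF := F ⊓ centralizer (F : Set G) with hZF
  have hZFA : ZF ≤ A := by
    rintro z ⟨hzF, hz⟩
    rw [← hA.2.2]
    exact ⟨hFP hzF, centralizer_le hAF hz⟩
  have hZFne : ZF ≠ ⊥ := fun h => nilpotent_center_inf_ne_bot (isNilpotent_fittingOf M)
    (Fact.out : p.Prime) hpF (le_bot_iff.1 ((inf_le_inf_right _ (piCoreOf_le _ _)).trans h.le))
  have hCAM : centralizer (A : Set G) ≤ M := by
    refine (centralizer_le hZFA).trans ((centralizer_le_normalizer _).trans (le_of_eq ?_))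
    refine minSimple_normalizer_eq_coatom_of_le hG hM hZFne
      (inf_le_left.trans (fittingOf_le M)) fun g hg => ?_
    have h1 := le_normalizer_fittingOf M hg
    have h2 := normalizer_le_normalizer_centralizer_subgroup F h1
    rw [mem_normalizer_iff]
    intro x
    exact and_congr (mem_normalizer_iff.1 h1 x) (mem_normalizer_iff.1 h2 x)
  have hK : Cfsg.piCoreOf π (centralizer (A : Set G)) = ⊥ := by
    rw [eq_bot_iff, ← hD0]
    exact le_piCoreOf_of_sylow_invariant hsolM hP ((piCoreOf_le _ _).trans hCAM)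
      (isPiSubgroup_primesNotDvd_iff.1 (isPiSubgroup_piCoreOf _ _))
      ((hA.2.1.trans (normalizer_le_normalizer_centralizer_subgroup A)).trans
        (normalizer_le_normalizer_piCoreOf _ _))
  let PG : Sylow p G := hPG.toSylowTop
  have hAt : Cfsg.TransitivityHypothesis A :=
    transitivityHypothesis_of_scn hG habn (P := PG) hA hA1
  have hπA : Cfsg.primesNotDvd (Nat.card A) = π := primesNotDvd_card_of_isPGroup hAp hAne
  have hAZ : ¬ Cfsg.RankLE 2 ↥(A ⊓ centralizer (A : Set G)) := by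
    rw [inf_eq_left.2 (le_centralizer_iff_isMulCommutative.2 hAc)]
    exact fun h => hA3 (h p Fact.out)
  -- `A` normalizes no nontrivial `p'`-subgroup
  have hinv : ∀ Y : Subgroup G, (Nat.card Y).Coprime p → A ≤ normalizer (Y : Set G) → Y = ⊥ := by
    intro Y hY hAY
    refine eq_bot_of_forall_invariant_primary (coprime_card_of_isPGroup hAp hY)
      (minSimple_solvable hG (ne_top_of_le_ne_top hM.1 hAM)) hAY fun q hq hqd W hW hAW => ?_
    have hqp : q ≠ p := by
      rintro rfl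
      exact hq.not_dvd_one (hY ▸ Nat.dvd_gcd hqd dvd_rfl)
    have hndvd : ∀ {S : Subgroup G}, IsPGroup p S → ¬ q ∣ Nat.card S := fun hS h => by
      obtain ⟨n, hn⟩ := IsPGroup.iff_card.1 hS
      rw [hn] at h
      exact hqp ((Nat.prime_dvd_prime_iff_eq hq Fact.out).1 (hq.dvd_of_dvd_pow h))
    have htr := transHyp_transitive_three hG hAt hAZ hq (hndvd hAp)
    have hFπ : ∀ r : ℕ, r.Prime → r ∣ Nat.card F → r ∣ Nat.card A := by
      intro r hr hd
      obtain ⟨n, hn⟩ := IsPGroup.iff_card.1 hFp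
      obtain ⟨m, hm⟩ := IsPGroup.iff_card.1 hAp
      rw [hn] at hd
      obtain rfl := (Nat.prime_dvd_prime_iff_eq hr Fact.out).1 (hr.dvd_of_dvd_pow hd)
      refine hm ▸ dvd_pow_self r fun h0 => hAne (card_eq_one.1 ?_)
      rw [hm, h0, pow_zero]
    obtain ⟨hb, hc⟩ := transHyp_superset hG hAt hq (hndvd hAp) htr F
      (ne_top_of_le_ne_top hM.1 (fittingOf_le M)) hFπ hAF
      (isSubnormal_of_isNilpotent (isNilpotent_fittingOf M) _)
    obtain ⟨Q, hQ, -⟩ := exists_maxInv_ge (bot_mem_invSubgroups ⊤ F ({q} : Set ℕ))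
    obtain ⟨-, hN⟩ := transHyp_normalizer_eq hG hFπ hb hQ
    have hKF : Cfsg.piCoreOf (Cfsg.primesNotDvd (Nat.card A)) (centralizer (F : Set G)) = ⊥ := by
      rw [eq_bot_iff, ← hK, hπA]
      have := (transHyp_core_inf_centralizer hG hAt hAF).ge
      rw [hπA] at this
      exact this.trans inf_le_left
    have hMQ : M ≤ normalizer (Q : Set G) := by
      refine (le_normalizer_fittingOf M).trans ?_
      rw [hN, hKF, bot_sup_eq]
      exact inf_le_right
    have hQbot : Q = ⊥ := by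
      by_contra hne
      haveI := Fact.mk hq
      have hQM : Q ≤ M := le_normalizer.trans
        (minSimple_normalizer_eq_coatom hG hM hne
          (minSimple_ne_top_of_isPGroup hG (isPGroup_of_isPiSubgroup (p := q) hQ.1.2.1)) hMQ).le
      have hQF : Q ≤ F := (le_piCoreOf hQM hMQ hQ.1.2.1).trans (piCoreOf_singleton_le_fittingOf hq M)
      obtain ⟨t, ht, htd⟩ := Nat.exists_prime_and_dvd (mt card_eq_one.1 hne)
      exact hndvd (hFp.to_le hQF) ((hQ.1.2.1 t ht htd : t = q) ▸ htd)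
    obtain ⟨W', hW', hWW'⟩ :=
      exists_maxInv_ge (show W ∈ Cfsg.invSubgroups ⊤ A {q} from ⟨le_top, hW, hAW⟩)
    obtain ⟨k, hk, e⟩ := htr Q (hc hQ) W' hW'
    rw [e, hQbot, Subgroup.map_bot] at hWW'
    exact le_bot_iff.1 hWW'
  exact inUniqueMaximal_iff.2 ⟨M, hM, hAM, fun L hL hAL =>
    coatom_eq_of_invariant_le hG habn hzj hM hAM hAp hAne
      (fun Y hY hn => (hinv Y hY hn).le.trans bot_le) hL hAL⟩

end CfsgLib.OddOrder
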