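import Cfsg.Agent.OddOrder.BG8.Bender
import Cfsg.Agent.OddOrder.BG1Stab
import Cfsg.Agent.Coprime.Action
import Cfsg.Agent.Components.FStar
import Cfsg.Prelude.Def_CaseTheorems

/-!
# Invariant subgroups for a subgroup of the Fitting subgroup of a maximal local subgroup

`H` is a local subgroup contained in no other one, `F = F(H)` has at least two prime divisors,
`Z(F) ≤ C_F(M) ≤ M ≤ F` and `R` is solvable and normalized by `M` and `C_H(F)`.  Then, for a prime
`q` not dividing `|F|`, every `M`-invariant `q`-subgroup of `R` lies in `O_{π(F)'}(R)`, and there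
is only one maximal one (S1481).
-/

set_option autoImplicit false
set_option linter.style.haveILetI false

open scoped commutatorElement Pointwise

namespace CfsgLib.OddOrder

open Cfsg Subgroup

variable {G : Type*} [Group G] [Finite G]

/-- The standing situation. -/
structure LocalFittingData (H M R : Subgroup G) : Prop where
  isLocal : Cfsg.IsLocalSubgroup H
  maximal : ∀ L : Subgroup G, Cfsg.IsLocalSubgroup L → H ≤ L → L = H
  two_primes : ∀ r : ℕ, ∃ s : ℕ, s.Prime ∧ s ∣ Nat.card (Cfsg.fittingOf H) ∧ s ≠ r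
  le_fitting : M ≤ Cfsg.fittingOf H
  centralizer_le : Cfsg.fittingOf H ⊓ centralizer (M : Set G) ≤ M
  solvable : Group.IsSolvable R
  normalized : M ≤ normalizer (R : Set G)
  normalized_centralizer :
    H ⊓ centralizer (Cfsg.fittingOf H : Set G) ≤ normalizer (R : Set G)

namespace LocalFittingData

variable {H M R : Subgroup G}

/-- The centralizer of a primary part of `M` lies in `H`. -/
theorem part_centralizer_le (h : LocalFittingData H M R) {s : ℕ} (hs : s.Prime)
    (hd : s ∣ Nat.card (Cfsg.fittingOf H)) :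
    centralizer (Cfsg.piCoreOf ({s} : Set ℕ) M : Set G) ≤ H := by
  haveI := Fact.mk hs
  set F := Cfsg.fittingOf H with hF
  set Z := Cfsg.piCoreOf ({s} : Set ℕ) F ⊓ centralizer (F : Set G) with hZ
  have hZne : Z ≠ ⊥ := nilpotent_center_inf_ne_bot (isNilpotent_fittingOf H) hs hd
  have hZM : Z ≤ M :=
    (le_inf (inf_le_left.trans (piCoreOf_le _ _))
      (inf_le_right.trans (Subgroup.centralizer_le h.le_fitting))).trans h.centralizer_le
  have hZpi : IsPiSubgroup ({s} : Set ℕ) Z :=
    isPiSubgroup_mono inf_le_left (isPiSubgroup_piCoreOf _ _)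
  have hZp : Z ≤ Cfsg.piCoreOf ({s} : Set ℕ) M :=
    nilpotent_le_piCoreOf (isNilpotent_of_le h.le_fitting (isNilpotent_fittingOf H)) hZM hZpi
  have hHN : H ≤ normalizer (Z : Set G) := by
    intro g hg
    have hgF := le_normalizer_fittingOf H hg
    have h1 := normalizer_le_normalizer_piCoreOf ({s} : Set ℕ) F hgF
    have h2 := normalizer_le_normalizer_centralizer_subgroup F hgF
    rw [mem_normalizer_iff]
    intro x
    exact and_congr (mem_normalizer_iff.1 h1 x) (mem_normalizer_iff.1 h2 x)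
  refine (Subgroup.centralizer_le hZp).trans ((centralizer_le_normalizer _).trans (le_of_eq ?_))
  exact h.maximal _ ⟨s, Z, hs, isPGroup_of_isPiSubgroup hZpi, hZne, rfl⟩ hHN

theorem centralizer_le_top (h : LocalFittingData H M R) : centralizer (M : Set G) ≤ H := by
  obtain ⟨s, hs, hd, -⟩ := h.two_primes 0
  exact (Subgroup.centralizer_le (piCoreOf_le _ M)).trans (h.part_centralizer_le hs hd)

/-- A subgroup of `R` centralizing `M`, of order prime to `|F|`, is trivial. -/
theorem eq_bot_of_centralizes (h : LocalFittingData H M R) {Y : Subgroup G} (hYR : Y ≤ R)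
    (hYM : Y ≤ centralizer (M : Set G))
    (hY : (Nat.card Y).Coprime (Nat.card (Cfsg.fittingOf H))) : Y = ⊥ := by
  set F := Cfsg.fittingOf H with hF
  have hYH : Y ≤ H := hYM.trans h.centralizer_le_top
  have hYF : Y ≤ centralizer (F : Set G) := by
    refine Stab.le_centralizer_of_nilpotent_faithful (isNilpotent_fittingOf H)
      (hYH.trans (le_normalizer_fittingOf H)) hY (le_inf inf_le_left ?_)
    have hMC : M ≤ F ⊓ centralizer (Y : Set G) :=
      le_inf h.le_fitting (Subgroup.le_centralizer_iff.1 hYM)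
    exact ((inf_le_inf_left F (Subgroup.centralizer_le hMC)).trans h.centralizer_le).trans
      (hMC.trans inf_le_right)
  -- `C_H(F) ∩ R` lies in `F`
  set X := H ⊓ centralizer (F : Set G) with hX
  set W := X ⊓ R with hW
  have hXW : X ≤ normalizer (W : Set G) :=
    (le_inf le_normalizer h.normalized_centralizer).trans inf_normalizer_le_normalizer_inf
  have hHX : H ≤ normalizer (X : Set G) := by
    intro g hg
    rw [mem_normalizer_iff]
    intro x
    exact and_congr (mem_normalizer_iff.1 (le_normalizer hg) x)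
      (mem_normalizer_iff.1
        (normalizer_le_normalizer_centralizer_subgroup F (le_normalizer_fittingOf H hg)) x)
  have hFW : Cfsg.fittingOf W ≤ F := by
    refine le_trans (le_fittingOf ((fittingOf_le W).trans inf_le_left)
      (hXW.trans (normalizer_le_normalizer_fittingOf W)) (isNilpotent_fittingOf W)) ?_
    exact le_fittingOf ((fittingOf_le X).trans inf_le_left)
      (hHX.trans (normalizer_le_normalizer_fittingOf X)) (isNilpotent_fittingOf X)
  have hWsol : Group.IsSolvable W :=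
    Components.isSolvable_mono h.solvable inf_le_right
  have hWF : W ≤ F := by
    refine le_trans (le_inf le_rfl ?_) ((inf_centralizer_fittingOf_le hWsol).trans hFW)
    exact (inf_le_left.trans inf_le_right : W ≤ centralizer (F : Set G)).trans
      (Subgroup.centralizer_le hFW)
  refine eq_bot_iff.2 fun y hy => ?_
  have h1 : y ∈ Y ⊓ F := ⟨hy, hWF ⟨⟨hYH hy, hYF hy⟩, hYR hy⟩⟩
  rwa [Subgroup.inf_eq_bot_of_coprime hY] at h1

/-- Fixed points of a primary part of `M` on an invariant `q`-subgroup are trivial. -/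
theorem fixed_eq_bot (h : LocalFittingData H M R) {Q : Subgroup G} (hQR : Q ≤ R)
    (hQ : (Nat.card Q).Coprime (Nat.card (Cfsg.fittingOf H)))
    (hMQ : M ≤ normalizer (Q : Set G)) {s : ℕ} (hs : s.Prime)
    (hd : s ∣ Nat.card (Cfsg.fittingOf H)) :
    Q ⊓ centralizer (Cfsg.piCoreOf ({s} : Set ℕ) M : Set G) = ⊥ := by
  set F := Cfsg.fittingOf H with hF
  set D := Q ⊓ centralizer (Cfsg.piCoreOf ({s} : Set ℕ) M : Set G) with hD
  have hDH : D ≤ H := inf_le_right.trans (h.part_centralizer_le hs hd)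
  have hDF : D ⊓ F = ⊥ :=
    Subgroup.inf_eq_bot_of_coprime (hQ.coprime_dvd_left (card_dvd_of_le inf_le_left))
  refine h.eq_bot_of_centralizes (inf_le_left.trans hQR) ?_
    (hQ.coprime_dvd_left (card_dvd_of_le inf_le_left))
  have hMD : M ≤ normalizer (D : Set G) := by
    intro g hg
    rw [mem_normalizer_iff]
    intro x
    exact and_congr (mem_normalizer_iff.1 (hMQ hg) x)
      (mem_normalizer_iff.1 (normalizer_le_normalizer_centralizer_subgroup _
        (le_normalizer_piCoreOf _ M hg)) x)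
  intro d hd'
  rw [mem_centralizer_iff]
  intro m hm
  have h1 : ⁅d, m⁆ ∈ D ⊓ F := by
    refine ⟨?_, ?_⟩
    · show ⁅d, m⁆ ∈ D
      rw [commutatorElement_def, mul_assoc d, mul_assoc d (m * d⁻¹)]
      exact mul_mem hd' ((mem_normalizer_iff.1 (hMD hm) _).1 (inv_mem hd'))
    · show ⁅d, m⁆ ∈ F
      rw [commutatorElement_def]
      exact mul_mem ((mem_normalizer_iff.1 (le_normalizer_fittingOf H (hDH hd')) m).1
        (h.le_fitting hm)) (inv_mem (h.le_fitting hm))
  rw [hDF, mem_bot, commutatorElement_eq_one_iff_mul_comm] at h1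
  exact h1.symm

/-- `M`-invariant subgroups of `R` of order prime to `|F|` lie in `O_{π(F)'}(R)`. -/
theorem le_piCoreOf_of_invariant (h : LocalFittingData H M R) {Q : Subgroup G} (hQR : Q ≤ R)
    (hQ : (Nat.card Q).Coprime (Nat.card (Cfsg.fittingOf H)))
    (hMQ : M ≤ normalizer (Q : Set G)) :
    Q ≤ Cfsg.piCoreOf (Cfsg.primesNotDvd (Nat.card (Cfsg.fittingOf H))) R := by
  set F := Cfsg.fittingOf H with hF
  set n := Nat.card F with hn
  have hMnil : Group.IsNilpotent M := isNilpotent_of_le h.le_fitting (isNilpotent_fittingOf H)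
  haveI := hMnil
  have hMsol : Group.IsSolvable M := inferInstance
  set L := R ⊔ M with hL
  have hLsol : Group.IsSolvable L := Components.isSolvable_sup h.solvable hMsol h.normalized
  obtain ⟨s₀, hs₀, hds₀, -⟩ := h.two_primes 0
  have key : ∀ r ∈ {r : ℕ | r.Prime ∧ r ∣ n},
      Q ≤ Cfsg.piCoreOf (Cfsg.primesNotDvd r) L := by
    rintro r ⟨hr, hrd⟩
    haveI := Fact.mk hr
    obtain ⟨s, hs, hsd, hne⟩ := h.two_primes r
    set N := Cfsg.piCoreOf (Cfsg.primesNotDvd r) L with hN
    set Mr := Cfsg.piCoreOf ({r} : Set ℕ) M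
    set Ms := Cfsg.piCoreOf ({s} : Set ℕ) M with hMs
    have hMsN : Ms ≤ N := by
      refine le_piCoreOf_of_commuting hLsol (P := Mr) (F := Cfsg.piCoreOf ({s} : Set ℕ) F)
        ((piCoreOf_le _ M).trans le_sup_right) ((piCoreOf_le _ M).trans le_sup_right)
        (isPGroup_of_isPiSubgroup (isPiSubgroup_piCoreOf _ M)) ?_
        (nilpotent_le_piCoreOf (isNilpotent_fittingOf H)
          ((piCoreOf_le _ M).trans h.le_fitting) (isPiSubgroup_piCoreOf _ M))
        (piCoreOf_le_centralizer_piCoreOf M (Set.disjoint_singleton.2 (Ne.symm hne))) ?_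
      · refine Nat.coprime_of_dvd fun q hq hd1 hd2 => hne ?_
        rw [← isPiSubgroup_piCoreOf ({s} : Set ℕ) F q hq hd1,
          (Nat.prime_dvd_prime_iff_eq hq hr).1 hd2]
      · refine inf_le_right.trans ((h.part_centralizer_le hr hrd).trans ?_)
        exact (le_normalizer_fittingOf H).trans (normalizer_le_normalizer_piCoreOf _ _)
    have hsplit := Coprime.commutator_sup_centralizer (G := Q) (A := Ms)
      ((piCoreOf_le _ M).trans hMQ)
      (((hQ.coprime_dvd_right (card_dvd_of_le
        ((piCoreOf_le _ M).trans h.le_fitting))).symm))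
      (Or.inr (Components.isSolvable_mono h.solvable hQR))
    rw [h.fixed_eq_bot hQR hQ hMQ hs hsd, sup_bot_eq] at hsplit
    rw [← hsplit, commutator_le]
    intro a ha b hb
    have haN : a ∈ normalizer (N : Set G) :=
      le_normalizer_piCoreOf _ L (Subgroup.mem_sup_left (hQR ha))
    rw [commutatorElement_def]
    exact mul_mem ((mem_normalizer_iff.1 haN b).1 (hMsN hb)) (inv_mem (hMsN hb))
  have h1 : Q ≤ Cfsg.piCoreOf (Cfsg.primesNotDvd n) L :=
    le_piCoreOf_of_forall_pPrime (S := {r : ℕ | r.Prime ∧ r ∣ n}) (s₀ := s₀) ⟨hs₀, hds₀⟩ key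
      fun q hq hqS => ⟨hq, fun hqd => hqS ⟨hq, hqd⟩⟩
  have h2 := (le_inf h1 hQR).trans (piCoreOf_inf_le _ L R)
  rwa [inf_eq_right.2 (le_sup_left : R ≤ L)] at h2

/-- There is exactly one maximal `M`-invariant `q`-subgroup, a Sylow subgroup of the core. -/
theorem existsUnique_max (h : LocalFittingData H M R) (q : ℕ) [Fact q.Prime]
    (hq : ¬ q ∣ Nat.card (Cfsg.fittingOf H)) :
    ∃! Q : Subgroup G, Q ∈ Cfsg.maxInvSubgroups R M {q} ∧
      (∀ Q' : Subgroup G, Q' ∈ Cfsg.maxInvSubgroups R M {q} →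
        Q' ≤ Cfsg.piCoreOf (Cfsg.primesNotDvd (Nat.card (Cfsg.fittingOf H))) R ∧
        ¬ q ∣ Q'.relIndex
          (Cfsg.piCoreOf (Cfsg.primesNotDvd (Nat.card (Cfsg.fittingOf H))) R)) := by
  set n := Nat.card (Cfsg.fittingOf H) with hn
  set K := Cfsg.piCoreOf (Cfsg.primesNotDvd n) R with hK
  have hqn : q.Coprime n := (Fact.out : q.Prime).coprime_iff_not_dvd.2 hq
  have hMnil : Group.IsNilpotent M := isNilpotent_of_le h.le_fitting (isNilpotent_fittingOf H)
  haveI := hMnil
  have hMsol : Group.IsSolvable M := inferInstance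
  have hMK : M ≤ normalizer (K : Set G) :=
    h.normalized.trans (normalizer_le_normalizer_piCoreOf _ R)
  have hKn : (Nat.card K).Coprime n :=
    (coprime_card_primesNotDvd (isPiSubgroup_piCoreOf _ R)).symm
  have hMKc : (Nat.card M).Coprime (Nat.card K) :=
    (hKn.coprime_dvd_right (card_dvd_of_le h.le_fitting)).symm
  have hfix : K ⊓ centralizer (M : Set G) = ⊥ :=
    h.eq_bot_of_centralizes (inf_le_left.trans (piCoreOf_le _ R)) inf_le_right
      (hKn.coprime_dvd_left (card_dvd_of_le inf_le_left))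
  obtain ⟨P₀, hP₀⟩ := Coprime.exists_invariant_sylow hMK hMKc (Or.inl hMsol) q
  set Q₀ := (P₀ : Subgroup K).map K.subtype with hQ₀
  have hle : ∀ Y ∈ Cfsg.invSubgroups R M {q}, Y ≤ Q₀ := by
    intro Y hY
    obtain ⟨hYR, hYq, hYM⟩ := hY
    have hYp : IsPGroup q Y := isPGroup_of_isPiSubgroup hYq
    have hYc : (Nat.card Y).Coprime n := by
      obtain ⟨k, hk⟩ := IsPGroup.iff_card.1 hYp
      rw [hk]
      exact hqn.pow_left k
    obtain ⟨P, hYP, hP⟩ := Coprime.exists_invariant_sylow_ge hMK hMKc (Or.inl hMsol)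
      (h.le_piCoreOf_of_invariant hYR hYc hYM) hYp hYM
    obtain ⟨g, hg, hgP⟩ := Coprime.exists_conj_map_sylow P P₀
    obtain ⟨c, hc, hcP⟩ := Coprime.exists_conj_eq_of_invariant hMK hMKc (Or.inl hMsol) hP hP₀ hg hgP
    rw [hfix, mem_bot] at hc
    rw [hc, map_one, one_smul] at hcP
    exact hYP.trans (le_of_eq hcP)
  have hQ₀inv : Q₀ ∈ Cfsg.invSubgroups R M {q} :=
    ⟨(map_subtype_le _).trans (piCoreOf_le _ R),
      isPiSubgroup_of_isPGroup (P₀.isPGroup'.map _) rfl, hP₀⟩
  have hmax : Q₀ ∈ Cfsg.maxInvSubgroups R M {q} :=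
    ⟨hQ₀inv, fun Y hY hle' => le_antisymm (hle Y hY) hle'⟩
  have huniq : ∀ Q' ∈ Cfsg.maxInvSubgroups R M {q}, Q' = Q₀ := fun Q' hQ' =>
    (hQ'.2 Q₀ hQ₀inv (hle Q' hQ'.1)).symm
  refine ⟨Q₀, ⟨hmax, fun Q' hQ' => ?_⟩, fun Q' hQ' => huniq Q' hQ'.1⟩
  rw [huniq Q' hQ']
  refine ⟨map_subtype_le _, ?_⟩
  show ¬ q ∣ ((P₀ : Subgroup K).map K.subtype).relIndex K
  rw [Subgroup.relIndex, Subgroup.subgroupOf,
    comap_map_eq_self_of_injective K.subtype_injective]
  exact P₀.not_dvd_index

end LocalFittingData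

end CfsgLib.OddOrder
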