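import Cfsg.Agent.OddOrder.BG7.Superset
import Cfsg.Agent.OddOrder.BG7.Transitive
import Cfsg.Agent.OddOrder.BG8.Bender
import Cfsg.Agent.OddOrder.BG1Stab

/-!
# BG 8.1 (a): the case of a Fitting subgroup that is not a `p`-group
-/

set_option autoImplicit false
set_option linter.style.haveILetI false

namespace CfsgLib.OddOrder

open Cfsg Subgroup

variable {G : Type*} [Group G] [Finite G]

/-- Subgroups of finite nilpotent groups are subnormal. -/
theorem isSubnormal_of_isNilpotent {N : Type*} [Group N] [Finite N] (hN : Group.IsNilpotent N)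
    (H : Subgroup N) : H.IsSubnormal := by
  haveI := hN
  generalize hn : H.index = n
  induction n using Nat.strong_induction_on generalizing H with
  | _ n ih =>
  by_cases htop : H = ⊤
  · rw [htop]; exact IsSubnormal.top
  have hlt := Group.normalizerCondition_of_isNilpotent (G := N) H (lt_top_iff_ne_top.2 htop)
  refine IsSubnormal.step H _ hlt.le (ih _ ?_ _ rfl) Subgroup.normal_in_normalizer
  rw [← hn]
  exact index_strictAnti hlt

theorem eq_bot_of_forall_invariant_primary {A Y : Subgroup G}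
    (hcop : (Nat.card A).Coprime (Nat.card Y)) (hsolv : Group.IsSolvable A)
    (hAY : A ≤ normalizer (Y : Set G))
    (h : ∀ q : ℕ, q.Prime → q ∣ Nat.card Y → ∀ Z : Subgroup G, IsPiSubgroup ({q} : Set ℕ) Z →
      A ≤ normalizer (Z : Set G) → Z = ⊥) : Y = ⊥ := by
  by_contra hne
  obtain ⟨q, hq, hd⟩ := Nat.exists_prime_and_dvd (mt card_eq_one.1 hne)
  haveI := Fact.mk hq
  obtain ⟨S, hS⟩ := Coprime.exists_invariant_sylow hAY hcop (Or.inl hsolv) q
  have h0 := h q hq hd _ (isPiSubgroup_of_isPGroup (S.isPGroup'.map _) rfl) hS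
  rw [map_eq_bot_iff_of_injective _ Y.subtype_injective] at h0
  exact S.ne_bot_of_dvd_card hd h0

/-- BG 8.1 (a). -/
theorem nonPCore_inUniqueMaximal (hG : Cfsg.IsMinSimpleOddOrder G) {p : ℕ} [Fact p.Prime]
    {M A₀ : Subgroup G} (hM : IsCoatom M) (hA₀ : A₀ ≤ Cfsg.fittingOf M)
    (hA₀e : Cfsg.IsElementaryAbelian p A₀) (hA₀3 : p ^ 3 ≤ Nat.card A₀)
    (hnp : ¬ IsPGroup p ↥(Cfsg.fittingOf M)) :
    Cfsg.InUniqueMaximal (Cfsg.fittingOf M ⊓ centralizer (A₀ : Set G)) := by
  set F := Cfsg.fittingOf M with hF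
  set A := F ⊓ centralizer (A₀ : Set G) with hA
  have hFn := isNilpotent_fittingOf M
  have hFM := fittingOf_le M
  have hsolM := minSimple_coatom_solvable hG hM
  have hA₀A : A₀ ≤ A := le_inf hA₀ (le_centralizer_iff_isMulCommutative.2 hA₀e.1)
  have hA₀C : A₀ ≤ centralizer (A : Set G) := le_centralizer_iff.1 inf_le_right
  have hCA : F ⊓ centralizer (A : Set G) ≤ A :=
    inf_le_inf_left _ (centralizer_le hA₀A)
  have hpF : p ∣ Nat.card F := by
    refine dvd_trans ?_ (card_dvd_of_le hA₀)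
    obtain ⟨n, hn⟩ := IsPGroup.iff_card.1 (isPGroup_of_isElementaryAbelian hA₀e)
    rw [hn] at hA₀3 ⊢
    refine dvd_pow_self p fun h0 => ?_
    rw [h0, pow_zero] at hA₀3
    exact (Nat.one_lt_pow (by omega) (Fact.out : p.Prime).one_lt).not_ge hA₀3
  have h2 : ∀ r : ℕ, ∃ s : ℕ, s.Prime ∧ s ∣ Nat.card F ∧ s ≠ r := by
    intro r
    by_contra hc
    simp only [not_exists, not_and, not_not] at hc
    refine hnp (isPGroup_of_isPiSubgroup (A := F) fun q hq hd => ?_)
    show q = p
    rw [hc q hq hd, hc p Fact.out hpF]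
  have hbase : BenderBase M A :=
    { coatom := hM
      le_fitting := inf_le_left
      center_le := le_inf inf_le_left (inf_le_right.trans (centralizer_le hA₀))
      two_primes := h2 }
  set π := Cfsg.primesNotDvd (Nat.card F) with hπ
  have hπA : Cfsg.primesNotDvd (Nat.card A) = π := by
    ext q
    simp only [hπ, Cfsg.primesNotDvd, Set.mem_setOf_eq, and_congr_right_iff]
    intro hq
    refine not_congr ⟨fun h => h.trans (card_dvd_of_le inf_le_left), fun h => ?_⟩
    obtain ⟨s, hs, hd⟩ := Nat.exists_prime_and_dvd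
      (mt card_eq_one.1 (hbase.part_centralizer_le hG hq h).2)
    obtain rfl : s = q := isPiSubgroup_piCoreOf ({q} : Set ℕ) A s hs hd
    exact hd.trans (card_dvd_of_le (piCoreOf_le _ A))
  have hcop : ∀ {Y : Subgroup G}, IsPiSubgroup π Y → F ⊓ Y = ⊥ := fun hY =>
    Subgroup.inf_eq_bot_of_coprime (coprime_card_primesNotDvd hY)
  -- a `π'`-subgroup of `M` centralizing `A` is trivial
  have hfaith : ∀ Y : Subgroup G, Y ≤ M → IsPiSubgroup π Y → Y ≤ centralizer (A : Set G) →
      Y = ⊥ := by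
    intro Y hYM hY hYA
    have h1 : Y ≤ centralizer (F : Set G) := by
      refine Stab.le_centralizer_of_nilpotent_faithful hFn (hYM.trans (le_normalizer_fittingOf M))
        (coprime_card_primesNotDvd hY).symm ?_
      have hAle : A ≤ F ⊓ centralizer (Y : Set G) := le_inf inf_le_left (le_centralizer_iff.1 hYA)
      exact ((inf_le_inf_left _ (centralizer_le hAle)).trans hCA).trans hAle
    rw [eq_bot_iff, ← hcop hY]
    exact le_inf ((le_inf hYM h1).trans (inf_centralizer_fittingOf_le hsolM)) le_rfl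
  obtain ⟨s₀, hs₀, hd₀, -⟩ := h2 p
  have hCAM : centralizer (A : Set G) ≤ M :=
    (centralizer_le (piCoreOf_le _ A)).trans (hbase.part_centralizer_le hG hs₀ hd₀).1
  have hA1 : A ≠ ⊥ := fun h => (hbase.part_centralizer_le hG hs₀ hd₀).2
    (le_bot_iff.1 ((piCoreOf_le _ A).trans h.le))
  have hAt : A ≠ ⊤ := ne_top_of_le_ne_top hM.1 (inf_le_left.trans hFM)
  have hsolA : Group.IsSolvable A := minSimple_solvable hG hAt
  -- the transitivity hypothesis
  have htrh : Cfsg.TransitivityHypothesis A := by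
    refine ⟨hA1, hAt, fun X hX hAX => ?_⟩
    rw [hπA]
    refine le_antisymm (sSup_le ?_) (le_sSup ⟨piCoreOf_le _ X, isPiSubgroup_piCoreOf _ X,
      hAX.trans (le_normalizer_piCoreOf _ X)⟩)
    rintro Y ⟨hYX, hY, hAY⟩
    refine le_piCoreOf_of_forall_pPrime
      (S := {r | r.Prime ∧ r ∣ Nat.card F}) (s₀ := s₀) ⟨hs₀, hd₀⟩ (fun r hr => ?_)
      (fun q hq hqS => ⟨hq, fun h => hqS ⟨hq, h⟩⟩)
    obtain ⟨q, hq, hqd, hqr⟩ := h2 r
    set Aq := Cfsg.piCoreOf ({q} : Set ℕ) A
    have hAqA : Aq ≤ A := piCoreOf_le _ A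
    have hAqY : Aq ≤ normalizer (Y : Set G) := hAqA.trans hAY
    have hcop' : (Nat.card Aq).Coprime (Nat.card Y) :=
      (coprime_card_primesNotDvd hY).coprime_dvd_left (card_dvd_of_le (hAqA.trans inf_le_left))
    set V := Y ⊓ centralizer (Aq : Set G) with hV
    have hVM : V ≤ M := inf_le_right.trans (hbase.part_centralizer_le hG hq hqd).1
    have hVπ : IsPiSubgroup π V := isPiSubgroup_mono inf_le_left hY
    have hAV : A ≤ normalizer (V : Set G) := by
      intro a ha
      have ha' := normalizer_le_normalizer_centralizer_subgroup Aq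
        (le_normalizer_piCoreOf ({q} : Set ℕ) A ha)
      rw [mem_normalizer_iff]
      intro x
      exact and_congr (mem_normalizer_iff.1 (hAY ha) x) (mem_normalizer_iff.1 ha' x)
    have hV0 : V = ⊥ := by
      refine hfaith V hVM hVπ fun v hv => ?_
      rw [mem_centralizer_iff]
      intro a ha
      have h1 : v * a * v⁻¹ * a⁻¹ ∈ F ⊓ V := by
        refine mem_inf.2 ⟨mul_mem
          ((mem_normalizer_iff.1 (le_normalizer_fittingOf M (hVM hv)) a).1 (inf_le_left (a := F) ha))
          (inv_mem (inf_le_left (a := F) ha)), ?_⟩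
        rw [mul_assoc v a, mul_assoc v (a * v⁻¹)]
        exact mul_mem hv ((mem_normalizer_iff.1 (hAV ha) _).1 (inv_mem hv))
      rw [hcop hVπ, mem_bot, mul_inv_eq_one, mul_inv_eq_iff_eq_mul] at h1
      exact h1.symm
    rw [← Coprime.commutator_sup_centralizer hAqY hcop'
      (Or.inl (minSimple_solvable hG (ne_top_of_le_ne_top hAt hAqA)))]
    refine sup_le ?_ (hV0.le.trans bot_le)
    rw [commutator_le]
    intro y hy a ha
    have haO : a ∈ Cfsg.piCoreOf (Cfsg.primesNotDvd r) X :=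
      hbase.part_le_pPrime hG hX hAX hr.1 hr.2 hqr ha
    rw [commutatorElement_def]
    exact mul_mem ((mem_normalizer_iff.1 (le_normalizer_piCoreOf _ X (hYX hy)) a).1 haO)
      (inv_mem haO)
  -- hence `A` normalizes no nontrivial `π'`-subgroup
  have hinv : ∀ Y : Subgroup G, IsPiSubgroup π Y → A ≤ normalizer (Y : Set G) → Y = ⊥ := by
    intro Y hY hAY
    refine eq_bot_of_forall_invariant_primary
      ((coprime_card_primesNotDvd hY).coprime_dvd_left (card_dvd_of_le inf_le_left)) hsolA hAY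
      fun q hq hqd Z hZ hAZ => ?_
    have hqπ : q ∈ π := hY q hq hqd
    have hqA : ¬ q ∣ Nat.card A := fun h => hqπ.2 (h.trans (card_dvd_of_le inf_le_left))
    have hZ3 : ¬ Cfsg.RankLE 2 ↥(A ⊓ centralizer (A : Set G)) :=
      not_rankLE_of_le (le_inf hA₀A hA₀C) hA₀e hA₀3
    have htr := transHyp_transitive_three hG htrh hZ3 hq hqA
    have huniq : ∀ Q₁ ∈ Cfsg.maxInvSubgroups ⊤ A {q}, ∀ Q₂ ∈ Cfsg.maxInvSubgroups ⊤ A {q},
        Q₂ = Q₁ := by
      intro Q₁ h₁ Q₂ h₂
      obtain ⟨k, hk, e⟩ := htr Q₁ h₁ Q₂ h₂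
      have hk1 : k = 1 := by
        rw [hπA, hfaith _ ((piCoreOf_le _ _).trans hCAM) (isPiSubgroup_piCoreOf _ _)
          (piCoreOf_le _ _)] at hk
        exact mem_bot.1 hk
      rw [e, hk1, map_conj_one]
    have hFπ : ∀ r : ℕ, r.Prime → r ∣ Nat.card F → r ∣ Nat.card A := by
      intro r hr hd
      by_contra hn
      have : r ∈ Cfsg.primesNotDvd (Nat.card A) := ⟨hr, hn⟩
      rw [hπA] at this
      exact this.2 hd
    obtain ⟨hb, hc⟩ := transHyp_superset hG htrh hq hqA htr F
      (ne_top_of_le_ne_top hM.1 hFM) hFπ inf_le_left (isSubnormal_of_isNilpotent hFn _)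
    obtain ⟨Q, hQ, -⟩ := exists_maxInv_ge (bot_mem_invSubgroups ⊤ F ({q} : Set ℕ))
    obtain ⟨-, hN⟩ := transHyp_normalizer_eq hG hFπ hb hQ
    have hKF : Cfsg.piCoreOf (Cfsg.primesNotDvd (Nat.card A)) (centralizer (F : Set G)) = ⊥ := by
      rw [hπA]
      exact hfaith _ ((piCoreOf_le _ _).trans ((centralizer_le inf_le_left).trans hCAM))
        (isPiSubgroup_piCoreOf _ _) ((piCoreOf_le _ _).trans (centralizer_le inf_le_left))
    have hMQ : M ≤ normalizer (Q : Set G) := by
      refine (le_normalizer_fittingOf M).trans ?_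
      rw [hN, hKF, bot_sup_eq]
      exact inf_le_right
    have hQbot : Q = ⊥ := by
      by_contra hne
      haveI := Fact.mk hq
      have hQt := minSimple_ne_top_of_isPGroup hG (isPGroup_of_isPiSubgroup (p := q) hQ.1.2.1)
      have hQM : Q ≤ M := le_normalizer.trans
        (minSimple_normalizer_eq_coatom hG hM hne hQt hMQ).le
      have hQF : Q ≤ F := (le_piCoreOf hQM hMQ hQ.1.2.1).trans (piCoreOf_singleton_le_fittingOf hq M)
      obtain ⟨t, ht, htd⟩ := Nat.exists_prime_and_dvd (mt card_eq_one.1 hne)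
      have htq : t = q := hQ.1.2.1 t ht htd
      exact hqπ.2 (htq ▸ htd.trans (card_dvd_of_le hQF))
    obtain ⟨W, hW, hZW⟩ :=
      exists_maxInv_ge (show Z ∈ Cfsg.invSubgroups ⊤ A {q} from ⟨le_top, hZ, hAZ⟩)
    rw [huniq Q (hc hQ) W hW, hQbot] at hZW
    exact le_bot_iff.1 hZW
  exact inUniqueMaximal_iff.2 ⟨M, hM, inf_le_left.trans hFM, fun L hL hAL =>
    BenderPair.coatom_eq hG { toBenderBase := hbase, invariant := hinv } hL hAL⟩

end CfsgLib.OddOrder
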